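import Groth.Agent.Lib.QCoh.DevissageExt
import Groth.Agent.Lib.Cohom.Affine
import Groth.Agent.Lib.Cohom.Compare
import Groth.Agent.Lib.WeakAss.Structure
import Groth.Agent.Lib.RedSub.Basic
import Mathlib.AlgebraicGeometry.Morphisms.Finite
import Mathlib.LinearAlgebra.FiniteDimensional.Basic

/-!
# Chevalley: a Noetherian scheme with a finite surjection from an affine scheme is affine
-/

universe u

open CategoryTheory CategoryTheory.Limits Opposite AlgebraicGeometry TopologicalSpace Abelian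

namespace GrothLib.Affine25

variable {X : Scheme.{u}}

/-- Vanishing of the first cohomology. -/
def H1Zero (M : X.Modules) : Prop :=
  Subsingleton (Ext.{u} (Cohom.freeFun.obj (⊤ : X.Opens)) (Coh.toAb M) 1)

theorem h1Zero_of_retract {M N : X.Modules} (s : N ⟶ M) (r : M ⟶ N) (h : s ≫ r = 𝟙 N)
    (hM : H1Zero M) : H1Zero N := by
  refine subsingleton_of_forall_eq 0 fun x ↦ ?_
  have e : x = (x.comp (Ext.mk₀ ((QCoh.toAbFun X).map s)) (add_zero 1)).comp
      (Ext.mk₀ ((QCoh.toAbFun X).map r)) (add_zero 1) := by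
    rw [Ext.comp_assoc_of_second_deg_zero, Ext.mk₀_comp_mk₀, ← Functor.map_comp, h,
      CategoryTheory.Functor.map_id, Ext.comp_mk₀_id]
  rw [e, @Subsingleton.elim _ hM (x.comp (Ext.mk₀ ((QCoh.toAbFun X).map s)) (add_zero 1)) 0]
  exact Ext.zero_comp _ _ _ _ _

theorem h1Zero_ext {S : ShortComplex X.Modules} (hS : S.ShortExact) (h₁ : H1Zero S.X₁)
    (h₃ : H1Zero S.X₃) : H1Zero S.X₂ := by
  refine subsingleton_of_forall_eq 0 fun x ↦ ?_
  have hS' := QCoh.toAbFun_map_shortExact _ hS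
  have hx : x.comp (Ext.mk₀ ((QCoh.toAbFun X).map S.g)) (add_zero 1) = 0 :=
    @Subsingleton.elim _ h₃ _ _
  obtain ⟨y, rfl⟩ := Ext.covariant_sequence_exact₂ _ hS' x hx
  rw [@Subsingleton.elim _ h₁ y 0]
  exact Ext.zero_comp _ _ _ _ _

theorem h1Zero_push {W : Scheme.{u}} (g : W ⟶ X) [IsAffineHom g] [IsAffine W] (M : W.Modules)
    [M.IsQuasicoherent] : H1Zero ((Coh.push g).obj M) := by
  obtain ⟨e⟩ := Cohom.nonempty_HH_equiv_pushforward g M 1
  have := Cohom.subsingleton_HH_of_isAffine M 1 one_pos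
  exact Cohom.subsingleton_ext_top_of_HH e.symm.toEquiv.subsingleton

/-- Multiplication by a global function on any open. -/
theorem mulHom_app (f : Γ(X, ⊤)) (U : X.Opens) (r : Γ(X, U)) :
    (show Γ(X, U) from (Cohom.mulHom f).app U r) =
      r * X.presheaf.map (homOfLE (le_top : U ≤ ⊤)).op f := by
  have h1 : (show Γ(X, U) from (Cohom.mulHom f).app U (1 : Γ(X, U))) =
      X.presheaf.map (homOfLE (le_top : U ≤ ⊤)).op f :=
    congrArg (fun s ↦ s.val (op U))
      ((SheafOfModules.unitHomEquiv (Coh.structureModule X)).apply_symm_apply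
        ⟨fun U ↦ X.presheaf.map (homOfLE le_top).op f, fun {U V} i ↦
          (ConcreteCategory.congr_hom
            (X.presheaf.map_comp (homOfLE (le_top (a := U.unop))).op i) f).symm⟩)
  refine Eq.trans ?_ (congrArg (fun a : Γ(X, U) ↦ r * a) h1)
  refine Eq.trans ?_ (Scheme.Modules.Hom.app_smul (Cohom.mulHom f) r (1 : Γ(X, U)))
  exact congrArg (fun a : Γ(X, U) ↦ (show Γ(X, U) from (Cohom.mulHom f).app U a)) (mul_one r).symm

section Dominating

variable {W : Scheme.{u}} (g : W ⟶ X) [IsIntegral W]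

/-- A function not invertible at the image of the generic point vanishes on `W`. -/
theorem app_eq_zero_of_notMem_basicOpen {U : X.Opens} (a : Γ(X, U))
    (ha : g (genericPoint W) ∉ X.basicOpen a) : g.app U a = 0 := by
  apply (basicOpen_eq_bot_iff _).1
  refine le_antisymm (fun w hw ↦ (ha ?_).elim) bot_le
  replace hw : w ∈ g ⁻¹ᵁ X.basicOpen a := (Scheme.preimage_basicOpen g a).ge hw
  exact ((genericPoint_spec W).mem_open_set_iff (g ⁻¹ᵁ X.basicOpen a).isOpen).2
    ⟨w, Set.mem_univ _, hw⟩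

theorem smul_pushUnit_eq_zero
    (r : X.presheaf.stalk (g (genericPoint W))) (hr : r ∈ IsLocalRing.maximalIdeal _)
    (e : (QCoh.pushUnit g).presheaf.stalk (g (genericPoint W))) : r • e = 0 := by
  obtain ⟨U, hU, a, rfl⟩ := X.presheaf.exists_germ_eq r
  obtain ⟨V, hV, s, rfl⟩ := TopCat.Presheaf.exists_germ_eq (QCoh.pushUnit g).presheaf e
  have ha : g (genericPoint W) ∉ X.basicOpen (X.presheaf.map (homOfLE (inf_le_left : U ⊓ V ≤ U)).op a) :=
    fun h ↦ (IsLocalRing.mem_maximalIdeal _).1 hr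
      ((Scheme.mem_basicOpen _ a _ hU).1 (by rw [Scheme.basicOpen_res] at h; exact h.2))
  rw [← TopCat.Presheaf.germ_res_apply X.presheaf (homOfLE (inf_le_left : U ⊓ V ≤ U))
      (g (genericPoint W)) ⟨hU, hV⟩ a,
    ← QCoh.germ_map (QCoh.pushUnit g) (homOfLE (inf_le_right : U ⊓ V ≤ V)) ⟨hU, hV⟩ s,
    ]
  refine (WeakAss.germ_smul _ _ _).symm.trans ((congrArg _ ?_).trans (map_zero _))
  change (g.app (U ⊓ V)).hom _ • (show Γ(Coh.structureModule W, g ⁻¹ᵁ (U ⊓ V)) from _) = 0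
  rw [app_eq_zero_of_notMem_basicOpen g _ ha]
  exact zero_smul _ _

theorem mem_support_pushUnit : g (genericPoint W) ∈ CohB1.support (QCoh.pushUnit g) := by
  intro hsub
  have htop : g (genericPoint W) ∈ (⊤ : X.Opens) := trivial
  obtain ⟨V, hV, e, _, he⟩ := TopCat.Presheaf.germ_eq (QCoh.pushUnit g).presheaf (g (genericPoint W))
    htop htop (1 : Γ(W, g ⁻¹ᵁ ⊤)) 0 (hsub.elim _ _)
  rw [map_zero] at he
  have : Nonempty (g ⁻¹ᵁ V : W.Opens) := ⟨⟨genericPoint W, hV⟩⟩
  refine one_ne_zero (α := Γ(W, g ⁻¹ᵁ V)) ?_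
  exact ((map_one (W.presheaf.map
    (homOfLE (fun w hw ↦ e.le hw : g ⁻¹ᵁ V ≤ g ⁻¹ᵁ ⊤)).op).hom).symm).trans he

/-- Fractions: a nonzero global function is a multiple of a given nonzero function. -/
theorem exists_multiple [IsAffine W] {V : W.Opens} (hV : genericPoint W ∈ V) (a : Γ(W, V))
    (ha : a ≠ 0) : ∃ p : Γ(W, ⊤), p ≠ 0 ∧
      ∃ t : Γ(W, V), W.presheaf.map (homOfLE (le_top : V ≤ ⊤)).op p = a * t := by
  have hi := germ_injective_of_isIntegral W (genericPoint W) hV
  have : Nonempty ((⊤ : W.Opens) : Scheme.{u}) := ⟨⟨genericPoint W, trivial⟩⟩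
  have : IsFractionRing Γ(W, ⊤) W.functionField :=
    functionField_isFractionRing_of_isAffineOpen W ⊤ (isAffineOpen_top W)
  obtain ⟨⟨p, q⟩, hpq⟩ := IsLocalization.surj (nonZeroDivisors Γ(W, ⊤))
    (show W.functionField from W.presheaf.germ V (genericPoint W) hV a)
  have h1 : W.presheaf.map (homOfLE (le_top : V ≤ ⊤)).op p =
      a * W.presheaf.map (homOfLE (le_top : V ≤ ⊤)).op q.1 := hi <| by
    rw [map_mul, TopCat.Presheaf.germ_res_apply, TopCat.Presheaf.germ_res_apply]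
    exact hpq.symm
  refine ⟨p, fun hp ↦ ?_, _, h1⟩
  rw [hp, map_zero] at h1
  have : Nonempty (V : W.Opens) := ⟨⟨genericPoint W, hV⟩⟩
  refine (mul_ne_zero ha ?_) h1.symm
  exact fun h ↦ nonZeroDivisors.ne_zero q.2
    (map_injective_of_isIntegral W (homOfLE (le_top : V ≤ ⊤)) (h.trans (map_zero _).symm))

/-- The endomorphism "multiplication by `b`" of the direct image. -/
noncomputable abbrev mulPush (b : Γ(W, ⊤)) : QCoh.pushUnit g ⟶ QCoh.pushUnit g :=
  (Coh.push g).map (Cohom.mulHom b)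

theorem mono_mulPush {b : Γ(W, ⊤)} (hb : b ≠ 0) : Mono (mulPush g b) :=
  QCoh.mono_of_app_injective _ fun U ↦ by
    intro s t h
    by_cases hU : (g ⁻¹ᵁ U : Set W).Nonempty
    · have : Nonempty (g ⁻¹ᵁ U : W.Opens) := hU.to_subtype
      let s' : Γ(W, g ⁻¹ᵁ U) := s
      let t' : Γ(W, g ⁻¹ᵁ U) := t
      have h' : s' * W.presheaf.map (homOfLE (le_top : g ⁻¹ᵁ U ≤ ⊤)).op b =
          t' * W.presheaf.map (homOfLE (le_top : g ⁻¹ᵁ U ≤ ⊤)).op b :=
        (mulHom_app b (g ⁻¹ᵁ U) s).symm.trans (Eq.trans h (mulHom_app b (g ⁻¹ᵁ U) t))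
      show s' = t'
      refine mul_right_cancel₀ (fun h0 ↦ hb ?_) h'
      exact map_injective_of_isIntegral W (homOfLE (le_top : g ⁻¹ᵁ U ≤ ⊤)) (h0.trans (map_zero _).symm)
    · have : g ⁻¹ᵁ U = ⊥ := Opens.ext (Set.not_nonempty_iff_eq_empty.1 hU)
      have : Subsingleton Γ(W, g ⁻¹ᵁ U) := by rw [this]; infer_instance
      exact Subsingleton.elim (α := Γ(W, g ⁻¹ᵁ U)) s t

/-- A coherent quotient of `g_* O_W` which vanishes at the generic point is killed by a nonzero
function on `W`. -/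
theorem exists_mulPush_comp_eq_zero [IsAffine W] [IsNoetherian X] {C : X.Modules} (hC : Coh.IsCoh C)
    (π : QCoh.pushUnit g ⟶ C) (hx : g (genericPoint W) ∉ CohB1.support C) :
    ∃ b : Γ(W, ⊤), b ≠ 0 ∧ mulPush g b ≫ π = 0 := by
  classical
  have := hC.1
  obtain ⟨κ, _, U, hUA, -, hU⟩ :=
    QCoh.exists_finite_affine_cover (X := X) (U := ⊤) isCompact_univ
  let I := QCoh.annIdeal C hC.2
  have key : ∀ k : κ, ∃ p : Γ(W, ⊤), p ≠ 0 ∧ (g (genericPoint W) ∈ U k →
      ∃ a ∈ I.ideal ⟨U k, hUA k⟩, ∃ t : Γ(W, g ⁻¹ᵁ U k),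
        W.presheaf.map (homOfLE (le_top : g ⁻¹ᵁ U k ≤ ⊤)).op p = g.app (U k) a * t) := fun k ↦ by
    by_cases hk : g (genericPoint W) ∈ U k
    · obtain ⟨a, ha, hxa⟩ : ∃ a ∈ I.ideal ⟨U k, hUA k⟩, g (genericPoint W) ∈ X.basicOpen a := by
        by_contra h
        push Not at h
        exact hx ((QCoh.coe_support_annIdeal C hC.2).le
          ((Scheme.IdealSheafData.mem_support_iff_of_mem (U := ⟨U k, hUA k⟩) hk).2
            ((Scheme.mem_zeroLocus_iff _ _ _).2 h)))
      have : Nonempty (g ⁻¹ᵁ U k : W.Opens) := ⟨⟨_, hk⟩⟩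
      obtain ⟨p, hp, t, ht⟩ := exists_multiple (V := g ⁻¹ᵁ U k) hk (g.app (U k) a) fun h ↦ by
        have h' : genericPoint W ∈ g ⁻¹ᵁ X.basicOpen a := hxa
        rw [Scheme.preimage_basicOpen, h, Scheme.basicOpen_zero] at h'
        exact h'
      exact ⟨p, hp, fun _ ↦ ⟨a, ha, t, ht⟩⟩
    · exact ⟨1, one_ne_zero, fun h ↦ absurd h hk⟩
  choose p hp hpk using key
  have : Nonempty ((⊤ : W.Opens) : Scheme.{u}) := ⟨⟨genericPoint W, trivial⟩⟩
  refine ⟨∏ k, p k, Finset.prod_ne_zero_iff.2 fun k _ ↦ hp k, Scheme.Modules.hom_ext _ _ fun V ↦ ?_⟩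
  refine AddCommGrpCat.ext fun s ↦ ?_
  refine TopCat.Presheaf.section_ext ⟨C.presheaf, C.isSheaf⟩ V _ 0 fun y hy ↦ ?_
  obtain ⟨k, hyk⟩ := Opens.mem_iSup.1 (hU (Opens.mem_top y))
  let V' := V ⊓ U k
  change C.presheaf.germ V y hy _ = C.presheaf.germ V y hy 0
  rw [map_zero, ← QCoh.germ_map C (homOfLE (inf_le_left : V' ≤ V)) ⟨hy, hyk⟩]
  by_cases hV' : g (genericPoint W) ∈ V'
  · obtain ⟨a, ha, t, ht⟩ := hpk k hV'.2
    let r : Γ(W, g ⁻¹ᵁ U k) := t * W.presheaf.map (homOfLE le_top).op (∏ l ∈ Finset.univ.erase k, p l)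
    let a' : Γ(X, V') := X.presheaf.map (homOfLE (inf_le_right : V' ≤ U k)).op a
    let z : Γ(QCoh.pushUnit g, V') := show Γ(W, g ⁻¹ᵁ V') from
      (show Γ(W, g ⁻¹ᵁ V') from (QCoh.pushUnit g).presheaf.map (homOfLE (inf_le_left : V' ≤ V)).op s) *
        W.presheaf.map (homOfLE (g.preimage_mono (inf_le_right : V' ≤ U k))).op r
    have hb : W.presheaf.map (homOfLE (le_top : g ⁻¹ᵁ V' ≤ ⊤)).op (∏ l, p l) =
        g.app V' a' * W.presheaf.map (homOfLE (g.preimage_mono (inf_le_right : V' ≤ U k))).op r := by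
      have e : ∀ q : Γ(W, ⊤), W.presheaf.map (homOfLE (le_top : g ⁻¹ᵁ V' ≤ ⊤)).op q =
          W.presheaf.map (homOfLE (g.preimage_mono (inf_le_right : V' ≤ U k))).op
            (W.presheaf.map (homOfLE (le_top : g ⁻¹ᵁ U k ≤ ⊤)).op q) := fun q ↦ by
        rw [← ConcreteCategory.comp_apply, ← Functor.map_comp]; rfl
      rw [e, ← Finset.mul_prod_erase _ p (Finset.mem_univ k), map_mul, ht, mul_assoc, map_mul]
      congr 1
      exact (ConcreteCategory.congr_hom (g.naturality (homOfLE (inf_le_right : V' ≤ U k)).op) a).symm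
    have hz : (mulPush g (∏ l, p l)).app V' ((QCoh.pushUnit g).presheaf.map
        (homOfLE (inf_le_left : V' ≤ V)).op s) = a' • z := by
      refine (mulHom_app (∏ l, p l) (g ⁻¹ᵁ V') _).trans ?_
      change _ * _ = g.app V' a' * _
      rw [hb, mul_left_comm]
    have h2 : (mulPush g (∏ l, p l) ≫ π).app V' ((QCoh.pushUnit g).presheaf.map
        (homOfLE (inf_le_left : V' ≤ V)).op s) = a' • π.app V' z := by
      rw [Scheme.Modules.Hom.comp_app, ConcreteCategory.comp_apply, hz]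
      exact (QCoh.appLinear π V').map_smul a' z
    rw [show C.presheaf.map (homOfLE (inf_le_left : V' ≤ V)).op _ = _ from
      QCoh.map_app (mulPush g (∏ l, p l) ≫ π) (homOfLE (inf_le_left : V' ≤ V)) s, h2]
    obtain ⟨O, hOA, hyO, hOV⟩ :=
      Opens.isBasis_iff_nbhd.1 X.isBasis_affineOpens (show y ∈ V' from ⟨hy, hyk⟩)
    have hk' : ∀ c : Γ(C, O), X.presheaf.map (homOfLE hOV).op a' • c = 0 := fun c ↦ by
      refine QCoh.killedByIdeal_annIdeal C hC.2 ⟨O, hOA⟩ _ ?_ c
      have := I.ideal_le_comap_ideal (U := ⟨O, hOA⟩) (V := ⟨U k, hUA k⟩) (hOV.trans inf_le_right) ha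
      rw [Ideal.mem_comap] at this
      rw [show X.presheaf.map (homOfLE hOV).op a' =
        X.presheaf.map (homOfLE (hOV.trans inf_le_right)).op a by
          rw [← ConcreteCategory.comp_apply, ← Functor.map_comp]; rfl]
      exact this
    rw [← QCoh.germ_map C (homOfLE hOV) hyO]
    refine (congrArg (C.presheaf.germ O y hyO) ?_).trans (map_zero _)
    exact (C.map_smul (homOfLE hOV) a' _).trans (hk' _)
  · have hempty : g ⁻¹ᵁ V' = ⊥ := le_antisymm (fun w hw ↦ (hV' (((genericPoint_spec W).mem_open_set_iff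
      (g ⁻¹ᵁ V').isOpen).2 (by simpa using ⟨w, hw⟩))).elim) bot_le
    have : Subsingleton Γ(W, g ⁻¹ᵁ V') := by rw [hempty]; infer_instance
    rw [show C.presheaf.map (homOfLE (inf_le_left : V' ≤ V)).op _ = _ from
      QCoh.map_app (mulPush g (∏ l, p l) ≫ π) (homOfLE (inf_le_left : V' ≤ V)) s,
      show (QCoh.pushUnit g).presheaf.map (homOfLE (inf_le_left : V' ≤ V)).op s = 0 from
        Subsingleton.elim (α := Γ(W, g ⁻¹ᵁ V')) _ _, map_zero, map_zero]

theorem bijective_stalkLin_mulPush [IsLocallyNoetherian X]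
    (hG : Coh.IsCoh (QCoh.pushUnit g)) {b : Γ(W, ⊤)} (hb : b ≠ 0) :
    Function.Bijective (QCoh.stalkLin (mulPush g b) (g (genericPoint W))) := by
  have := mono_mulPush g hb
  set x := g (genericPoint W)
  set ψ := QCoh.stalkLin (mulPush g b) x
  have hinj : Function.Injective ψ := QCoh.stalkLin_injective (mulPush g b) x
  have := QCoh.stalk_finite _ hG x
  have : Nontrivial ((QCoh.pushUnit g).presheaf.stalk x) :=
    not_subsingleton_iff_nontrivial.1 (mem_support_pushUnit g)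
  obtain ⟨d, -, ⟨e⟩⟩ := QCoh.exists_equiv_pi_residueField (R := X.presheaf.stalk x)
    (V := (QCoh.pushUnit g).presheaf.stalk x) (smul_pushUnit_eq_zero g)
  let φ := (e.symm.toLinearMap.comp (ψ.comp e.toLinearMap)).extendScalarsOfSurjective
    (S := IsLocalRing.ResidueField (X.presheaf.stalk x)) IsLocalRing.residue_surjective
  have hφ : Function.Injective φ := e.symm.injective.comp (hinj.comp e.injective)
  have := LinearMap.injective_iff_surjective.1 hφ
  refine ⟨hinj, fun z ↦ ?_⟩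
  obtain ⟨w, hw⟩ := this (e.symm z)
  exact ⟨e w, e.symm.injective hw⟩

end Dominating

variable {Y : Scheme.{u}} (f : Y ⟶ X) [IsFinite f] [Surjective f] [IsAffine Y]
  [AlgebraicGeometry.IsNoetherian X]

omit [AlgebraicGeometry.IsNoetherian X] in
include f in
theorem exists_affine_dominating {Z : Scheme.{u}} (i : Z ⟶ X) [IsIntegral Z] :
    ∃ (W : Scheme.{u}) (g : W ⟶ X), IsFinite g ∧ IsAffine W ∧ ∃ _ : IsIntegral W,
      g (genericPoint W) = i (genericPoint Z) := by
  obtain ⟨y, hy⟩ := f.surjective (i (genericPoint Z))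
  let T : Closeds Y := ⟨closure {y}, isClosed_closure⟩
  let j := (Scheme.IdealSheafData.vanishingIdeal T).subschemeι
  have hrange : Set.range j = (T : Set Y) := RedSub.range_subschemeι_vanishingIdeal T
  have := RedSub.isReduced_subscheme_vanishingIdeal T
  have : IrreducibleSpace (Scheme.IdealSheafData.vanishingIdeal T).subscheme := by
    rw [irreducibleSpace_def, Set.top_eq_univ]
    obtain ⟨z, hz⟩ : y ∈ Set.range j := hrange.symm ▸ subset_closure rfl
    have hpre : closure {z} = (Set.univ : Set _) := by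
      rw [j.isClosedEmbedding.isInducing.closure_eq_preimage_closure_image, Set.image_singleton, hz]
      exact Set.eq_univ_of_forall fun w ↦ (hrange ▸ ⟨w, rfl⟩ : j w ∈ (T : Set Y))
    exact hpre ▸ isIrreducible_singleton.closure
  have := isIntegral_of_irreducibleSpace_of_isReduced (Scheme.IdealSheafData.vanishingIdeal T).subscheme
  refine ⟨_, j ≫ f, inferInstance, isAffine_of_isAffineHom j, this, ?_⟩
  rw [Scheme.Hom.comp_apply, ← hy]
  exact congrArg f (inseparable_iff_closure_eq.2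
    ((QCoh.closure_singleton_eq_range j).trans hrange)).eq

include f in
theorem h1Zero_of_isCoh (M : X.Modules) (hM : Coh.IsCoh M) : H1Zero M := by
  have hiso : ∀ A B : X.Modules, Nonempty (A ≅ B) → H1Zero A → H1Zero B := fun A B ⟨e⟩ h ↦
    h1Zero_of_retract e.inv e.hom e.inv_hom_id h
  have hzero : ∀ A : X.Modules, IsZero A → H1Zero A := fun A hA ↦ by
    refine subsingleton_of_forall_eq 0 fun x ↦ ?_
    have e : (QCoh.toAbFun X).map (𝟙 A) = 0 := by rw [hA.eq_of_src (𝟙 A) 0]; exact Functor.map_zero _ _ _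
    have := congrArg (fun φ ↦ x.comp (Ext.mk₀ φ) (add_zero 1)) e
    simpa using this
  suffices ∀ (T : Closeds X) (M : X.Modules), Coh.IsCoh M → CohB1.support M = T → H1Zero M from
    this ⟨_, QCoh.isClosed_support_of_isCoh hM⟩ M hM rfl
  intro T
  induction T using WellFounded.induction (r := ((· < ·) : Closeds X → Closeds X → Prop))
    wellFounded_lt with
  | _ T ih =>
    intro M hM hMT
    refine QCoh.coh_induction H1Zero hiso hzero (fun S hS _ _ _ ↦ h1Zero_ext hS) M hM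
      fun Z i hi hZ N ι hι hN hN0 hsub ↦ ?_
    have hiT : Set.range i ⊆ (T : Set X) :=
      ((QCoh.range_subset_support_push i N ι hN hN0).trans hsub).trans hMT.le
    obtain ⟨W, g, _, _, _, hg⟩ := exists_affine_dominating f i
    have : IsLocallyNoetherian W := LocallyOfFiniteType.isLocallyNoetherian g
    have hO : Coh.IsCoh (Coh.structureModule W) := by
      have := WeakAss.isQuasicoherent_structureModule (X := W)
      refine ⟨this, (QCoh.isFiniteType_iff_moduleFinite _).2 fun U hU => ?_⟩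
      exact Module.Finite.of_surjective
        (LinearMap.toSpanSingleton Γ(W, U) Γ(Coh.structureModule W, U) (1 : Γ(W, U))) fun m =>
          ⟨m, mul_one (show Γ(W, U) from m)⟩
    have := hO.1
    have hG : Coh.IsCoh (QCoh.pushUnit g) :=
      ⟨QCoh.isQuasicoherent_pushforward g _, QCoh.isFiniteType_pushforward g _ hO.2⟩
    have := hG.1
    refine QCoh.piece_of_submodules i H1Zero hiso (fun S hS _ _ _ ↦ h1Zero_ext hS)
      (fun F d hd _ h ↦ h1Zero_of_retract (Sigma.ι (fun _ : Fin d ↦ F) ⟨0, hd⟩)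
        (Sigma.desc fun _ ↦ 𝟙 F) (Sigma.ι_desc _ _) h)
      (fun A hA hAs hx ↦ ih ⟨_, QCoh.isClosed_support_of_isCoh hA⟩
        (lt_of_le_of_ne (hAs.trans hiT) fun e ↦
          hx ((SetLike.ext'_iff.1 e).symm.le (hiT ⟨genericPoint Z, rfl⟩))) A hA rfl)
      (QCoh.pushUnit g) hG (hg ▸ mem_support_pushUnit g) (hg ▸ smul_pushUnit_eq_zero g)
      (fun G₁ m hm hG₁ hb ↦ ?_) N ι hN hN0
    obtain ⟨b, hb0, hb'⟩ := exists_mulPush_comp_eq_zero g (QCoh.isCoh_cokernel m hG₁ hG)
      (cokernel.π m) (hg ▸ QCoh.notMem_support_cokernel_of_surjective m hb.2)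
    have := mono_mulPush g hb0
    let a := Abelian.monoLift m (mulPush g b) hb'
    have ha : a ≫ m = mulPush g b := Abelian.monoLift_comp m _ hb'
    have : Mono a := @mono_of_mono _ _ _ _ _ a m (ha.symm ▸ inferInstance)
    refine ⟨_, a, inferInstance, hG, (Function.Bijective.of_comp_iff' hb _).1 ?_, h1Zero_push g _⟩
    rw [show ⇑(QCoh.stalkLin m (i (genericPoint Z))) ∘ ⇑(QCoh.stalkLin a (i (genericPoint Z))) =
        ⇑(QCoh.stalkLin (mulPush g b) (i (genericPoint Z))) from funext fun e ↦ by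
      rw [← ha, QCoh.stalkLin_comp]; rfl]
    exact hg ▸ bijective_stalkLin_mulPush g hG hb0

include f in
/-- Chevalley's theorem for finite morphisms. -/
theorem isAffine_of_finite_surjective : IsAffine X :=
  Cohom.isAffine_of_subH1Zero fun I i hi hI ↦ by
    have := hI
    have := WeakAss.isQuasicoherent_structureModule (X := X)
    refine h1Zero_of_isCoh f I ⟨hI, QCoh.isFiniteType_of_mono i ?_⟩
    refine (QCoh.isFiniteType_iff_moduleFinite _).2 fun U hU => ?_
    exact Module.Finite.of_surjective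
      (LinearMap.toSpanSingleton Γ(X, U) Γ(Coh.structureModule X, U) (1 : Γ(X, U))) fun m =>
        ⟨m, mul_one (show Γ(X, U) from m)⟩

end GrothLib.Affine25
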