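import Groth.Agent.Lib.Affine25.FiniteSurjective
import Groth.Agent.Lib.AbsApprox.FiniteApprox
import Groth.Agent.Lib.AbsApprox.Rel
import Groth.Agent.Lib.LimDescend.Scheme
import Groth.Agent.Lib.LimDesc.Finite
import Groth.Agent.Lib.LimDesc.Inj
import Groth.Agent.Lib.LimDesc.Snd
import Mathlib.AlgebraicGeometry.Morphisms.Integral
import Mathlib.AlgebraicGeometry.Morphisms.Immersion

/-!
# Chevalley's affineness theorem in general
-/

set_option autoImplicit false
set_option backward.isDefEq.respectTransparency false
set_option backward.isDefEq.respectTransparency.types false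
set_option linter.style.haveILetI false

universe u

open CategoryTheory CategoryTheory.Limits AlgebraicGeometry TopologicalSpace Opposite

namespace GrothLib.Affine25

variable {X S : Scheme.{u}}

/-- Finite, finitely presented, surjective from an affine scheme. -/
theorem isAffine_of_finite_fp_surjective (f : X ⟶ S) [IsFinite f] [LocallyOfFinitePresentation f]
    [Surjective f] [IsAffine X] [CompactSpace S] [QuasiSeparatedSpace S] : IsAffine S := by
  obtain ⟨𝒲⟩ := AbsApprox.nonempty_cov (S := S)
  let D := AbsApprox.Cov.system 𝒲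
  let c := AbsApprox.Cov.cone 𝒲
  let hc : IsLimit c := AbsApprox.Cov.isLimitCone 𝒲
  haveI : ∀ i j (a : i ⟶ j), IsAffineHom (D.map a) := fun _ _ a => AbsApprox.Cov.isAffineHom_system a
  haveI : ∀ i, CompactSpace ↥(D.obj i) := fun i => AbsApprox.Cov.compactSpace_model i.unop.2
  haveI : ∀ i, IsLocallyNoetherian (D.obj i) := fun i =>
    AbsApprox.Cov.isLocallyNoetherian_model i.unop.2
  haveI : ∀ i, QuasiSeparatedSpace ↥(D.obj i) := fun i => inferInstance
  let f' : X ⟶ c.pt := f
  haveI : LocallyOfFinitePresentation f' := ‹LocallyOfFinitePresentation f›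
  haveI : IsFinite f' := ‹IsFinite f›
  haveI : Surjective f' := ‹Surjective f›
  obtain ⟨i₀, ⟨M⟩⟩ := LimDescend.exists_model D c hc f'
  have hX := M.isPullback
  haveI := M.lfp
  haveI := M.qc
  haveI := M.qs
  haveI : CompactSpace M.obj := QuasiCompact.compactSpace_of_compactSpace M.hom
  haveI : QuasiSeparatedSpace M.obj := quasiSeparatedSpace_of_quasiSeparated M.hom
  obtain ⟨j₁, h₁⟩ := LimDesc.exists_isFinite_snd D hc M.hom hX
  obtain ⟨k₂, φ₂, h₂⟩ := LimDesc.exists_snd_of_exists_stage D @Surjective M.hom
    (LimDesc.exists_surjective D hc M.hom (𝟙 (D.obj i₀)) (qY := c.π.app i₀) (g := 𝟙 c.pt)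
      (IsPullback.of_vert_isIso ⟨by simp⟩) hX)
  haveI : IsAffine (LimDesc.cone D i₀ M.hom hX).pt := ‹IsAffine X›
  obtain ⟨j₃, h₃⟩ := Scheme.exists_isAffine_of_isLimit (LimDesc.diag D i₀ M.hom)
    (LimDesc.cone D i₀ M.hom hX) (LimDesc.isLimitCone D i₀ M.hom hX hc)
  let j₂ : Over i₀ := Over.mk φ₂
  obtain ⟨k, a₁, a₂, -⟩ := IsCofilteredOrEmpty.cone_objs j₁ j₂
  obtain ⟨m, b, b₃, -⟩ := IsCofilteredOrEmpty.cone_objs k j₃
  haveI hf : IsFinite (pullback.snd M.hom (D.map m.hom)) :=
    MorphismProperty.of_isPullback (P := @IsFinite)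
      (LimDesc.isPullback_map D i₀ M.hom (b ≫ a₁)) h₁
  haveI hs : Surjective (pullback.snd M.hom (D.map m.hom)) :=
    MorphismProperty.of_isPullback (P := @Surjective)
      (LimDesc.isPullback_map D i₀ M.hom (b ≫ a₂)) h₂
  haveI : IsAffine (pullback M.hom (D.map m.hom)) :=
    haveI := h₃
    isAffine_of_isAffineHom ((LimDesc.diag D i₀ M.hom).map b₃)
  haveI : AlgebraicGeometry.IsNoetherian (D.obj m.left) := {}
  haveI : IsAffine (D.obj m.left) :=
    isAffine_of_finite_surjective (pullback.snd M.hom (D.map m.hom))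
  haveI : IsAffineHom (c.π.app m.left) := isAffineHom_π_app D c hc _
  exact isAffine_of_isAffineHom (Y := D.obj m.left) (c.π.app m.left)

/-- Integral surjective from an affine scheme. -/
theorem isAffine_of_integral_surjective (f : X ⟶ S) [IsIntegralHom f] [Surjective f] [IsAffine X]
    [CompactSpace S] [QuasiSeparatedSpace S] : IsAffine S := by
  obtain ⟨I, _, _, _, D, π, hl, hfin, haff⟩ := AbsApprox.exists_finite_system_of_integral f
  let F := D ⋙ Over.forget S
  let c := (Over.forget S).mapCone (Cone.mk (Over.mk f) π)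
  have hc : IsLimit c := isLimitOfPreserves (Over.forget S) hl
  haveI : ∀ {i j} (a : i ⟶ j), IsAffineHom (F.map a) := fun a => haff _ _ a
  haveI : ∀ i, CompactSpace ↥(F.obj i) := fun i =>
    haveI := (hfin i).1
    QuasiCompact.compactSpace_of_compactSpace (D.obj i).hom
  haveI : ∀ i, QuasiSeparatedSpace ↥(F.obj i) := fun i =>
    haveI := (hfin i).1
    quasiSeparatedSpace_of_quasiSeparated (D.obj i).hom
  haveI : IsAffine c.pt := ‹IsAffine X›
  obtain ⟨i, hi⟩ := Scheme.exists_isAffine_of_isLimit F c hc
  haveI := (hfin i).1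
  haveI := (hfin i).2
  haveI : IsAffine (D.obj i).left := hi
  haveI : Surjective ((π.app i).left ≫ (D.obj i).hom) := by
    rw [Over.w (π.app i)]
    exact ‹Surjective f›
  haveI : Surjective (D.obj i).hom := Surjective.of_comp (π.app i).left (D.obj i).hom
  exact isAffine_of_finite_fp_surjective (D.obj i).hom

/-- A target of a surjective universally closed morphism from a separated scheme is separated. -/
theorem isSeparated_of_surjective_universallyClosed (f : X ⟶ S) [Surjective f] [UniversallyClosed f]
    [X.IsSeparated] : S.IsSeparated := by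
  refine ⟨?_⟩
  let s := terminal.from S
  haveI : IsSeparated (f ≫ s) := by
    rw [show f ≫ s = terminal.from X from terminalIsTerminal.hom_ext _ _]
    infer_instance
  refine ⟨IsClosedImmersion.of_isPreimmersion (pullback.diagonal s) ?_⟩
  let m : pullback (f ≫ s) (f ≫ s) ⟶ pullback s s :=
    pullback.map (f ≫ s) (f ≫ s) s s f f (𝟙 _) (by simp) (by simp)
  have hm : UniversallyClosed m :=
    MorphismProperty.pullbackMap (P := @UniversallyClosed) ‹_› ‹_› rfl rfl
  have e : pullback.diagonal (f ≫ s) ≫ m = f ≫ pullback.diagonal s := by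
    apply pullback.hom_ext <;> simp [m]
  have h : IsClosed (Set.range (pullback.diagonal (f ≫ s) ≫ m)) := by
    rw [Scheme.Hom.comp_base, TopCat.coe_comp, Set.range_comp]
    exact m.isClosedMap _ (pullback.diagonal (f ≫ s)).isClosedEmbedding.isClosed_range
  rw [e, Scheme.Hom.comp_base, TopCat.coe_comp, Set.range_comp, f.surjective.range_eq,
    Set.image_univ] at h
  exact h

/-- Chevalley's theorem. -/
theorem isAffine_of_surjective_universallyClosed (f : X ⟶ S) [IsAffine X] [Surjective f]
    [UniversallyClosed f] : IsAffine S := by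
  haveI : CompactSpace S := f.surjective.compactSpace f.continuous
  haveI := isSeparated_of_surjective_universallyClosed f
  haveI : IsAffineHom f := by
    haveI : IsAffineHom (f ≫ terminal.from S) := by
      rw [show f ≫ terminal.from S = terminal.from X from terminalIsTerminal.hom_ext _ _]
      infer_instance
    exact MorphismProperty.of_postcomp (W := @IsAffineHom) (W' := @IsSeparated) f (terminal.from S)
      inferInstance ‹_›
  haveI : IsIntegralHom f :=
    IsIntegralHom.iff_universallyClosed_and_isAffineHom.2 ⟨inferInstance, inferInstance⟩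
  exact isAffine_of_integral_surjective f

end GrothLib.Affine25
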